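import Cfsg.Agent.Lib.PGroups.OddAction.Basic
import Cfsg.Agent.Lib.Core.FPFAutomorphism
import Cfsg.Agent.S0117

/-!
# All maximal invariant subgroups nilpotent

If `A` acts coprimely on `G` (`A` or `G` solvable) and every invariant proper subgroup of the
non-nilpotent group `G` is nilpotent, then `G` is solvable, its order involves exactly two
primes and one of its Sylow subgroups is normal.
-/

set_option autoImplicit false
set_option linter.all false

universe u v

namespace CfsgLib.PGroups.OddAction

open Subgroup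
open scoped commutatorElement

variable {G : Type u} {A : Type v} [Group G] [Group A]

/-- Every invariant proper subgroup is nilpotent. -/
def AllNilp (φ : A →* MulAut G) : Prop :=
  ∀ H : Subgroup G, H ≠ ⊤ → Inv φ H → Group.IsNilpotent H

theorem allNilp_of_maximal [Finite G] {φ : A →* MulAut G}
    (h : ∀ M : Subgroup G, M ≠ ⊤ → Inv φ M → (∀ K : Subgroup G, M < K → Inv φ K → K = ⊤) →
      Group.IsNilpotent M) : AllNilp φ := by
  intro H hH hi
  obtain ⟨M, hHM, hM, hMi, hmax⟩ := exists_maximal_inv hH hi
  haveI := h M hM hMi hmax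
  haveI : Group.IsNilpotent (H.subgroupOf M) := Subgroup.isNilpotent _
  exact Group.nilpotent_of_mulEquiv (Subgroup.subgroupOfEquivOfLe hHM)

/-- The hypothesis passes to invariant quotients. -/
theorem AllNilp.quot {φ : A →* MulAut G} (h : AllNilp φ) {N : Subgroup G} [N.Normal]
    (hN : Inv φ N) : AllNilp (quotAct hN) := by
  intro H hH hi
  have hne : H.comap (QuotientGroup.mk' N) ≠ ⊤ := fun he => hH (by
    rw [← Subgroup.map_comap_eq_self_of_surjective (QuotientGroup.mk'_surjective N) H, he,
      Subgroup.map_top_of_surjective _ (QuotientGroup.mk'_surjective N)])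
  haveI := h _ hne (Inv.comap_mk hN hi)
  exact Group.nilpotent_of_surjective _
    ((QuotientGroup.mk' N).subgroupComap_surjective_of_surjective H
      (QuotientGroup.mk'_surjective N))

/-- A normal complement of a Sylow subgroup is invariant. -/
theorem inv_of_normal_coprime_index [Finite G] {φ : A →* MulAut G} {N : Subgroup G} [N.Normal]
    (h : (Nat.card N).Coprime N.index) : Inv φ N := by
  intro a x hx
  have h1 : orderOf ((φ a x : G) : G ⧸ N) ∣ N.index := by
    rw [Subgroup.index_eq_card]; exact orderOf_dvd_natCard _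
  have h2 : orderOf ((φ a x : G) : G ⧸ N) ∣ Nat.card N := by
    refine (orderOf_map_dvd (QuotientGroup.mk' N) (φ a x)).trans ?_
    rw [MulEquiv.orderOf_eq, ← Subgroup.orderOf_mk x hx]
    exact orderOf_dvd_natCard _
  have h3 : orderOf ((φ a x : G) : G ⧸ N) = 1 := Nat.eq_one_of_dvd_coprimes h h2 h1
  exact (QuotientGroup.eq_one_iff _).mp (orderOf_eq_one_iff.mp h3)

/-- An order with a single prime divisor gives a nilpotent group. -/
theorem isNilpotent_of_primes [Finite G] {p : ℕ} [Fact p.Prime]
    (h : ∀ q : ℕ, q.Prime → q ∣ Nat.card G → q = p) : Group.IsNilpotent G :=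
  IsPGroup.isNilpotent (IsPGroup.of_card
    (n := (Nat.card G).primeFactorsList.length)
    (Nat.eq_prime_pow_of_unique_prime_dvd Nat.card_pos.ne' (fun {d} => h d)))

theorem isSolvable_of_allNilp_aux {A : Type v} [Group A] [Finite A] :
    ∀ (n : ℕ) {G : Type u} [Group G] [Finite G] (φ : A →* MulAut G), Nat.card G = n →
      (Nat.card A).Coprime (Nat.card G) → (Group.IsSolvable A ∨ Group.IsSolvable G) →
      AllNilp φ → Group.IsSolvable G := by
  intro n
  induction n using Nat.strong_induction_on with
  | _ n ih =>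
  intro G _ _ φ hn hcop hsolv h
  by_cases hN : ∃ N : Subgroup G, N.Normal ∧ Inv φ N ∧ N ≠ ⊥ ∧ N ≠ ⊤
  · obtain ⟨N, hNn, hNi, hNb, hNt⟩ := hN
    haveI := hNn
    haveI := h N hNt hNi
    have hlt : Nat.card (G ⧸ N) < n := by
      rw [← hn, Subgroup.card_eq_card_quotient_mul_card_subgroup N]
      exact lt_mul_of_one_lt_right Nat.card_pos ((Subgroup.one_lt_card_iff_ne_bot N).mpr hNb)
    have hd : Nat.card (G ⧸ N) ∣ Nat.card G := Subgroup.card_quotient_dvd_card N
    haveI : Group.IsSolvable (G ⧸ N) := ih _ hlt (quotAct hNi) rfl (hcop.coprime_dvd_right hd)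
      (hsolv.imp id fun hs => by haveI := hs; infer_instance) (h.quot hNi)
    haveI : Group.IsSolvable N := inferInstance
    exact (Group.isSolvable_iff_subgroup_quotient N).mpr ⟨inferInstance, inferInstance⟩
  · push Not at hN
    by_cases hodd : ∃ p : ℕ, p.Prime ∧ p ∣ Nat.card G ∧ p ≠ 2
    · obtain ⟨p, hp, hpG, hp2⟩ := hodd
      haveI := Fact.mk hp
      obtain ⟨P, hP⟩ := exists_inv_sylow hcop hsolv p (φ := φ)
      have hPb : (P : Subgroup G) ≠ ⊥ := P.ne_bot_of_dvd_card hpG
      have hPn : P.1 = ⊤ → Group.IsSolvable G := fun hPt => by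
        haveI : Group.IsNilpotent G := IsPGroup.isNilpotent
          ((IsPGroup.iff_card).mpr (by
            obtain ⟨k, hk⟩ := IsPGroup.iff_card.mp P.2
            exact ⟨k, by rw [← hk, hPt, Subgroup.card_top]⟩))
        infer_instance
      set Z := Cfsg.centerThompsonOf p (P : Subgroup G) with hZ
      have hZb : Z ≠ ⊥ := CfsgLib.Transfer.centerThompsonOf_ne_bot P.2 hPb
      have hZP : Z ≤ (P : Subgroup G) :=
        inf_le_left.trans (Subgroup.map_subtype_le _)
      by_cases hZn : Subgroup.normalizer (Z : Set G) = ⊤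
      · have := hN Z (Subgroup.normalizer_eq_top_iff.mp hZn) hP.centerThompson hZb
        exact hPn (top_le_iff.mp (this ▸ hZP))
      · haveI := h _ hZn hP.centerThompson.normalizer
        obtain ⟨Q, N, hNn, hNc⟩ := (Cfsg.Agent.S0117.result hp2 P).mpr
          (CfsgLib.Core.FPFAut.hasNormalPComplement_of_isNilpotent p)
        haveI := hNn
        have hcp : (Nat.card N).Coprime N.index := by
          rw [hNc.symm.index_eq_card]
          have := Q.card_coprime_index
          rw [hNc.index_eq_card] at this
          exact this.symm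
        have hNt : N ≠ ⊤ := fun he => by
          have h1 := hNc.symm.index_eq_card
          rw [he, Subgroup.index_top] at h1
          exact (Q.ne_bot_of_dvd_card hpG) (Subgroup.card_eq_one.mp h1.symm)
        have hNb : N = ⊥ := by
          by_contra hb
          exact hNt (hN N hNn (inv_of_normal_coprime_index hcp) hb)
        have hQ : (Q : Subgroup G) = ⊤ := by
          apply Subgroup.eq_top_of_card_eq
          have := hNc.card_mul_card
          rwa [hNb, Subgroup.card_bot, one_mul] at this
        haveI : Group.IsNilpotent G := IsPGroup.isNilpotent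
          ((IsPGroup.iff_card).mpr (by
            obtain ⟨k, hk⟩ := IsPGroup.iff_card.mp Q.2
            exact ⟨k, by rw [← hk, hQ, Subgroup.card_top]⟩))
        infer_instance
    · push Not at hodd
      haveI : Fact (Nat.Prime 2) := ⟨Nat.prime_two⟩
      haveI : Group.IsNilpotent G := isNilpotent_of_primes hodd
      infer_instance

theorem isSolvable_of_allNilp [Finite A] [Finite G] (φ : A →* MulAut G)
    (hcop : (Nat.card A).Coprime (Nat.card G)) (hsolv : Group.IsSolvable A ∨ Group.IsSolvable G)
    (h : AllNilp φ) : Group.IsSolvable G :=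
  isSolvable_of_allNilp_aux _ φ rfl hcop hsolv h

/-- Two primes and a normal Sylow subgroup. -/
theorem structure_of_allNilp [Finite A] [Finite G] (φ : A →* MulAut G)
    (hcop : (Nat.card A).Coprime (Nat.card G)) (hsolv : Group.IsSolvable A ∨ Group.IsSolvable G)
    (h : AllNilp φ) (hG : ¬ Group.IsNilpotent G) :
    ∃ p q a b : ℕ, p.Prime ∧ q.Prime ∧ p ≠ q ∧ Nat.card G = p ^ a * q ^ b ∧
      ∃ R : Sylow q G, q ∣ Nat.card G ∧ (R : Subgroup G).Normal ∧ Inv φ (R : Subgroup G) := by
  haveI : Nontrivial G := not_subsingleton_iff_nontrivial.mp fun hs => hG inferInstance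
  haveI hGs : Group.IsSolvable G := isSolvable_of_allNilp φ hcop hsolv h
  obtain ⟨N, ⟨hNn, hNi, hNt⟩, hmax⟩ :=
    Set.Finite.exists_maximalFor id {N : Subgroup G | N.Normal ∧ Inv φ N ∧ N ≠ ⊤}
      (Set.toFinite _) ⟨⊥, inferInstance, inv_of_characteristic _, bot_ne_top⟩
  haveI := hNn
  haveI hNnil := h N hNt hNi
  haveI : Nontrivial (G ⧸ N) := QuotientGroup.nontrivial_iff.mpr hNt
  -- the quotient is abelian
  have habel : ∀ H : Subgroup (G ⧸ N), H.Normal → Inv (quotAct hNi) H → H ≠ ⊥ → H = ⊤ := by
    intro H hH hHi hHb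
    by_contra hHt
    have hle : N ≤ H.comap (QuotientGroup.mk' N) := fun x hx => by
      rw [Subgroup.mem_comap, QuotientGroup.mk'_apply, (QuotientGroup.eq_one_iff x).mpr hx]
      exact H.one_mem
    have hne : H.comap (QuotientGroup.mk' N) ≠ ⊤ := fun he => hHt (by
      rw [← Subgroup.map_comap_eq_self_of_surjective (QuotientGroup.mk'_surjective N) H, he,
        Subgroup.map_top_of_surjective _ (QuotientGroup.mk'_surjective N)])
    have heq := le_antisymm (hmax ⟨inferInstance, Inv.comap_mk hNi hHi, hne⟩ hle) hle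
    apply hHb
    rw [eq_bot_iff]
    intro x hx
    obtain ⟨g, rfl⟩ := QuotientGroup.mk_surjective x
    have hg : g ∈ H.comap (QuotientGroup.mk' N) := hx
    simp only [id] at heq
    rw [heq] at hg
    exact (QuotientGroup.eq_one_iff g).mpr hg
  have hcomm : commutator (G ⧸ N) = ⊥ := by
    by_contra hc
    exact (Group.IsSolvable.commutator_lt_top_of_nontrivial (G ⧸ N)).ne
      (habel _ inferInstance (inv_of_characteristic _) hc)
  obtain ⟨p, hp, hpd⟩ := Nat.exists_prime_and_dvd
    (show Nat.card (G ⧸ N) ≠ 1 from Finite.one_lt_card.ne')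
  haveI := Fact.mk hp
  obtain ⟨S⟩ : Nonempty (Sylow p (G ⧸ N)) := inferInstance
  have hSn : (S : Subgroup (G ⧸ N)).Normal :=
    ⟨fun n hn g => by
      have hc : ⁅g, n⁆ ∈ commutator (G ⧸ N) := Subgroup.commutator_mem_commutator (mem_top g) (mem_top n)
      rw [hcomm, Subgroup.mem_bot, commutatorElement_def] at hc
      rwa [mul_inv_eq_one.mp hc]⟩
  haveI := S.characteristic_of_normal hSn
  have hSt := habel _ hSn (inv_of_characteristic _) (S.ne_bot_of_dvd_card hpd)
  obtain ⟨k, hk⟩ := IsPGroup.iff_card.mp S.2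
  rw [hSt, Subgroup.card_top] at hk
  have hidx : N.index = p ^ k := by rw [Subgroup.index_eq_card]; exact hk
  -- Sylow subgroups for the other primes are normal
  have hnormal : ∀ (r : ℕ) [Fact r.Prime], r ≠ p → ∀ R : Sylow r G, (R : Subgroup G).Normal := by
    intro r _ hr R
    have hRN : (R : Subgroup G) ≤ N := by
      intro x hx
      obtain ⟨i, hi⟩ := IsPGroup.iff_orderOf.mp R.2 ⟨x, hx⟩
      have h1 : orderOf (x : G ⧸ N) ∣ r ^ i := by
        refine (orderOf_map_dvd (QuotientGroup.mk' N) x).trans ?_
        rw [← hi, Subgroup.orderOf_mk]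
      have h2 : orderOf (x : G ⧸ N) ∣ p ^ k := by rw [← hk]; exact orderOf_dvd_natCard _
      have h3 : orderOf (x : G ⧸ N) = 1 := Nat.eq_one_of_dvd_coprimes
        (Nat.coprime_pow_primes _ _ (Fact.out : r.Prime) hp hr) h1 h2
      exact (QuotientGroup.eq_one_iff _).mp (orderOf_eq_one_iff.mp h3)
    have hn2 : ((R.subtype hRN : Sylow r N) : Subgroup N).Normal := inferInstance
    haveI := (R.subtype hRN).characteristic_of_normal hn2
    have h4 : (((R.subtype hRN : Sylow r N) : Subgroup N).map N.subtype).Normal := inferInstance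
    rwa [Sylow.coe_subtype, Subgroup.map_subgroupOf_eq_of_le hRN] at h4
  obtain ⟨P, hP⟩ := exists_inv_sylow hcop hsolv p (φ := φ)
  have hPnn : ¬ (P : Subgroup G).Normal := fun hPn => hG (by
    refine (Group.isNilpotent_of_finite_tfae (G := G)).out 3 0 rfl rfl |>.mp ?_
    intro r hr R
    by_cases hrp : r = p
    · subst hrp
      haveI := Sylow.unique_of_normal P hPn
      rwa [Subsingleton.elim R P]
    · exact hnormal r hrp R)
  by_cases hex : ∃ r : ℕ, ∃ _ : Fact r.Prime, r ≠ p ∧ ∃ R : Sylow r G,
      (R : Subgroup G) ⊔ (P : Subgroup G) = ⊤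
  · obtain ⟨r, _, hrp, R, hRP⟩ := hex
    haveI := hnormal r hrp R
    haveI := R.characteristic_of_normal inferInstance
    obtain ⟨b, hb⟩ := IsPGroup.iff_card.mp R.2
    obtain ⟨a, ha⟩ := IsPGroup.iff_card.mp P.2
    have hcard : Nat.card G = p ^ a * r ^ b := by
      have hc := CfsgLib.Core.card_sup_of_coprime (P : Subgroup G) (R : Subgroup G)
        (by rw [Subgroup.normalizer_eq_top_iff.mpr inferInstance]; exact le_top)
        (by rw [ha, hb]; exact Nat.coprime_pow_primes _ _ hp Fact.out (Ne.symm hrp))
      rwa [sup_comm, hRP, Subgroup.card_top, ha, hb] at hc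
    have hRb : (R : Subgroup G) ≠ ⊥ := fun he => hPnn (by
      rw [he, bot_sup_eq] at hRP; rw [hRP]; infer_instance)
    refine ⟨p, r, a, b, hp, Fact.out, Ne.symm hrp, hcard, R, ?_, inferInstance,
      inv_of_characteristic _⟩
    have h1 : Nat.card (R : Subgroup G) ≠ 1 := fun he => hRb (Subgroup.card_eq_one.mp he)
    have h2 : r ∣ Nat.card (R : Subgroup G) := by
      rw [hb]; refine dvd_pow_self r fun h0 => h1 ?_
      rw [hb, h0, pow_zero]
    exact h2.trans (Subgroup.card_subgroup_dvd_card _)
  · exfalso
    push Not at hex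
    apply hPnn
    apply Subgroup.normalizer_eq_top_iff.mp
    rw [← Subgroup.index_eq_one]
    by_contra hne
    obtain ⟨r, hr, hrd⟩ := Nat.exists_prime_and_dvd hne
    haveI := Fact.mk hr
    obtain ⟨R⟩ : Nonempty (Sylow r G) := inferInstance
    have hRle : (R : Subgroup G) ≤ Subgroup.normalizer ((P : Subgroup G) : Set G) := by
      by_cases hrp : r = p
      · subst hrp
        exact absurd (hrd.trans (Subgroup.index_dvd_of_le Subgroup.le_normalizer))
          P.not_dvd_index
      · haveI := hnormal r hrp R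
        haveI := R.characteristic_of_normal inferInstance
        set W := (R : Subgroup G) ⊔ (P : Subgroup G) with hW
        haveI : Group.IsNilpotent W := h W (hex r inferInstance hrp R)
          ((inv_of_characteristic _).sup hP)
        have hPW : ((P.subtype le_sup_right : Sylow p W) : Subgroup W).Normal := inferInstance
        intro x hx
        have hxW : x ∈ W := Subgroup.mem_sup_left hx
        rw [Sylow.coe_subtype] at hPW
        exact (Subgroup.normal_subgroupOf_iff_le_normalizer le_sup_right).mp hPW hxW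
    exact R.not_dvd_index (hrd.trans (Subgroup.index_dvd_of_le hRle))

end CfsgLib.PGroups.OddAction
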