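import Mathlib
import Cfsg.Agent.Lib.Core.Coprime
import Cfsg.Agent.Lib.Transfer.ZJControl
import Cfsg.Prelude.Def_Transfer

/-!
# Invariant subgroups under coprime action

`φ : A →* MulAut G`. `Inv φ H`: `H` is `A`-invariant. Everything here takes
`Group.IsSolvable A ∨ Group.IsSolvable G` as a hypothesis where needed.
-/

set_option autoImplicit false
set_option linter.all false

universe u v

namespace CfsgLib.PGroups.OddAction

open Subgroup

variable {G : Type u} {A : Type v} [Group G] [Group A] (φ : A →* MulAut G)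

/-- `H` is invariant under `A`. -/
def Inv (H : Subgroup G) : Prop := ∀ a : A, ∀ x ∈ H, φ a x ∈ H

variable {φ}

theorem Inv.top : Inv φ (⊤ : Subgroup G) := fun _ _ _ => mem_top _

theorem Inv.map_eq {H : Subgroup G} (h : Inv φ H) (a : A) :
    H.map (φ a).toMonoidHom = H := by
  ext x
  constructor
  · rintro ⟨y, hy, rfl⟩
    exact h a y hy
  · intro hx
    refine ⟨φ a⁻¹ x, h _ x hx, ?_⟩
    show φ a (φ a⁻¹ x) = x
    rw [← MulAut.mul_apply, ← map_mul, mul_inv_cancel, map_one, MulAut.one_apply]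

theorem inv_of_map_eq {H : Subgroup G} (h : ∀ a : A, H.map (φ a).toMonoidHom = H) : Inv φ H :=
  fun a x hx => (h a).le (mem_map_of_mem _ hx)

theorem inv_of_characteristic (H : Subgroup G) [H.Characteristic] : Inv φ H :=
  inv_of_map_eq fun a => Subgroup.characteristic_iff_map_eq.mp inferInstance (φ a)

theorem Inv.inf {H K : Subgroup G} (h : Inv φ H) (k : Inv φ K) : Inv φ (H ⊓ K) :=
  fun a x hx => ⟨h a x hx.1, k a x hx.2⟩

theorem Inv.sup {H K : Subgroup G} (h : Inv φ H) (k : Inv φ K) : Inv φ (H ⊔ K) :=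
  inv_of_map_eq fun a => by rw [Subgroup.map_sup, h.map_eq, k.map_eq]

theorem Inv.normalizer {H : Subgroup G} (h : Inv φ H) :
    Inv φ (Subgroup.normalizer (H : Set G)) := by
  intro a x hx
  rw [Subgroup.mem_normalizer_iff] at hx ⊢
  intro n
  have key : ∀ m : G, m ∈ H ↔ φ a m ∈ H := fun m =>
    ⟨h a m, fun hm => by
      obtain ⟨y, hy, hy'⟩ := (h.map_eq a).ge hm
      exact (φ a).injective hy' ▸ hy⟩
  obtain ⟨m, rfl⟩ := (φ a).surjective n
  rw [← key, hx, key, map_mul, map_mul, map_inv]

theorem Inv.centerThompson {p : ℕ} {P : Subgroup G} (h : Inv φ P) :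
    Inv φ (Cfsg.centerThompsonOf p P) := by
  refine inv_of_map_eq fun a => ?_
  rw [CfsgLib.Transfer.centerThompsonOf_map (φ a).toMonoidHom P
    (by rw [(MonoidHom.ker_eq_bot_iff _).mpr (φ a).injective]; exact disjoint_bot_right),
    h.map_eq]

/-- An invariant Sylow subgroup under coprime action. -/
theorem exists_inv_sylow [Finite A] [Finite G] (hcop : (Nat.card A).Coprime (Nat.card G))
    (hsolv : Group.IsSolvable A ∨ Group.IsSolvable G) (p : ℕ) [Fact p.Prime] :
    ∃ P : Sylow p G, Inv φ (P : Subgroup G) := by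
  haveI : Finite (G ⋊[φ] A) := Finite.of_equiv _ SemidirectProduct.equivProd.symm
  let A' : Subgroup (G ⋊[φ] A) := (SemidirectProduct.inr : A →* G ⋊[φ] A).range
  let K : Subgroup (G ⋊[φ] A) := (SemidirectProduct.inl : G →* G ⋊[φ] A).range
  haveI hK : K.Normal := by
    show (SemidirectProduct.inl : G →* G ⋊[φ] A).range.Normal
    rw [SemidirectProduct.range_inl_eq_ker_rightHom]; infer_instance
  let eA : A ≃* A' := MonoidHom.ofInjective SemidirectProduct.inr_injective
  let eK : G ≃* K := MonoidHom.ofInjective SemidirectProduct.inl_injective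
  have hAK : A' ≤ Subgroup.normalizer (K : Set (G ⋊[φ] A)) := by
    rw [Subgroup.normalizer_eq_top_iff.mpr hK]; exact le_top
  have hcop' : (Nat.card A').Coprime (Nat.card K) := by
    rwa [← Nat.card_congr eA.toEquiv, ← Nat.card_congr eK.toEquiv]
  have hs : Group.IsSolvable A' ∨ Group.IsSolvable K := by
    rcases hsolv with h | h
    · exact Or.inl (Group.isSolvable_of_surjective (f := eA.toMonoidHom) eA.surjective)
    · exact Or.inr (Group.isSolvable_of_surjective (f := eK.toMonoidHom) eK.surjective)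
  obtain ⟨P, hP⟩ := CfsgLib.Core.exists_invariant_sylow hAK hcop' hs p
  refine ⟨P.comapOfInjective eK.toMonoidHom eK.injective ?_, ?_⟩
  · intro x _
    exact ⟨eK.symm x, by simp⟩
  · intro a x hx
    change eK.toMonoidHom x ∈ (P : Subgroup K) at hx
    change eK.toMonoidHom (φ a x) ∈ (P : Subgroup K)
    have h1 : (SemidirectProduct.inl x : G ⋊[φ] A) ∈ (P : Subgroup K).map K.subtype :=
      ⟨_, hx, rfl⟩
    have h2 := ((Subgroup.mem_normalizer_iff.mp (hP ⟨a, rfl⟩)) _).mp h1
    obtain ⟨y, hy, hy'⟩ := h2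
    rw [SetLike.mem_coe] at hy
    have : eK.toMonoidHom (φ a x) = y := by
      refine Subtype.ext ?_
      show (SemidirectProduct.inl (φ a x) : G ⋊[φ] A) = K.subtype y
      rw [hy', SemidirectProduct.inl_aut, map_inv]
    rwa [this]

/-- The induced action on the quotient by an invariant normal subgroup. -/
noncomputable def quotAct {N : Subgroup G} [N.Normal] (hN : Inv φ N) : A →* MulAut (G ⧸ N) where
  toFun a := QuotientGroup.congr N N (φ a) (hN.map_eq a)
  map_one' := by
    ext x
    induction x using QuotientGroup.induction_on with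
    | _ g => simp
  map_mul' a b := by
    ext x
    induction x using QuotientGroup.induction_on with
    | _ g =>
      show ((φ (a * b) g : G) : G ⧸ N) = ((φ a (φ b g) : G) : G ⧸ N)
      rw [map_mul, MulAut.mul_apply]

theorem quotAct_mk {N : Subgroup G} [N.Normal] (hN : Inv φ N) (a : A) (g : G) :
    quotAct hN a (g : G ⧸ N) = ((φ a g : G) : G ⧸ N) := rfl

theorem Inv.comap_mk {N : Subgroup G} [N.Normal] (hN : Inv φ N) {H : Subgroup (G ⧸ N)}
    (hH : Inv (quotAct hN) H) : Inv φ (H.comap (QuotientGroup.mk' N)) := fun a x hx => by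
  have := hH a _ hx
  exact this

/-- Every proper invariant subgroup is contained in a maximal one. -/
theorem exists_maximal_inv [Finite G] {H : Subgroup G} (hH : H ≠ ⊤) (hi : Inv φ H) :
    ∃ M : Subgroup G, H ≤ M ∧ M ≠ ⊤ ∧ Inv φ M ∧ ∀ K : Subgroup G, M < K → Inv φ K → K = ⊤ := by
  obtain ⟨M, ⟨hHM, hM, hMi⟩, hmax⟩ :=
    Set.Finite.exists_maximalFor id {M : Subgroup G | H ≤ M ∧ M ≠ ⊤ ∧ Inv φ M}
      (Set.toFinite _) ⟨H, le_rfl, hH, hi⟩
  refine ⟨M, hHM, hM, hMi, fun K hK hKi => by_contra fun h => ?_⟩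
  exact hK.not_ge (hmax ⟨hHM.trans hK.le, h, hKi⟩ hK.le)

end CfsgLib.PGroups.OddAction
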