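import Cfsg.Agent.Lib.PGroups.OddAction.AllNilpotent

/-!
# Statements modulo solvability of groups of odd order

`hA`, `hG` say that `A`, `G` are solvable when they have odd order (use `S0205.result`).
-/

set_option autoImplicit false
set_option linter.all false

universe u v

namespace CfsgLib.PGroups.OddAction

theorem solvable_or {A : Type v} {G : Type u} [Group A] [Group G]
    (hA : Odd (Nat.card A) → Group.IsSolvable A) (hG : Odd (Nat.card G) → Group.IsSolvable G)
    (hcop : (Nat.card A).Coprime (Nat.card G)) : Group.IsSolvable A ∨ Group.IsSolvable G := by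
  rcases Nat.even_or_odd (Nat.card A) with h | h
  · right
    apply hG
    rw [← Nat.not_even_iff_odd]
    intro h'
    have := Nat.dvd_gcd h.two_dvd h'.two_dvd
    rw [Nat.Coprime.gcd_eq_one hcop] at this
    exact absurd this (by norm_num)
  · exact Or.inl (hA h)

/-- S4240 modulo the odd order theorem. -/
theorem maximal_invariant_nilpotent {A : Type v} {G : Type u} [Group A] [Group G] [Finite A]
    [Finite G] [MulDistribMulAction A G]
    (hA : Odd (Nat.card A) → Group.IsSolvable A) (hG' : Odd (Nat.card G) → Group.IsSolvable G)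
    (hcop : (Nat.card A).Coprime (Nat.card G))
    (hmax : ∀ H : Subgroup G, H ≠ ⊤ → (∀ a : A, ∀ x ∈ H, a • x ∈ H) →
      (∀ K : Subgroup G, H < K → (∀ a : A, ∀ x ∈ K, a • x ∈ K) → K = ⊤) → Group.IsNilpotent H)
    (hG : ¬ Group.IsNilpotent G) :
    Group.IsSolvable G ∧
      (∃ p q a b : ℕ, p.Prime ∧ q.Prime ∧ p ≠ q ∧ Nat.card G = p ^ a * q ^ b) ∧
      ∃ (p : ℕ) (P : Sylow p G), p.Prime ∧ p ∣ Nat.card G ∧ (P : Subgroup G).Normal ∧
        (∀ a : A, ∀ x ∈ (P : Subgroup G), a • x ∈ (P : Subgroup G)) := by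
  let φ : A →* MulAut G := MulDistribMulAction.toMulAut A G
  have h : AllNilp φ := allNilp_of_maximal (φ := φ) hmax
  have hs := solvable_or hA hG' hcop
  obtain ⟨p, q, a, b, hp, hq, hpq, hc, R, hqd, hR, hRi⟩ := structure_of_allNilp φ hcop hs h hG
  exact ⟨isSolvable_of_allNilp φ hcop hs h, ⟨p, q, a, b, hp, hq, hpq, hc⟩,
    q, R, hq, hqd, hR, hRi⟩

end CfsgLib.PGroups.OddAction
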